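import Groth.Agent.CohDev.Coh
import Groth.Agent.CohColim.Basic
import Groth.Agent.Props.QApproxMain

/-!
# Coherent lifts along epimorphisms of quasi-coherent modules
-/

set_option autoImplicit false

universe u

open CategoryTheory Limits AlgebraicGeometry Opposite TopologicalSpace

noncomputable section

namespace Groth.Agent.CohModel

variable {X : Scheme.{u}} [IsNoetherian X]

/-- A coherent quotient of a quasi-coherent module is the image of a coherent module. -/
theorem exists_coh_lift {A B : X.Modules} (p : A ⟶ B) [Epi p] (hA : Coh.IsQCoh A)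
    (hB : Coh.IsCoh B) : ∃ (M : X.Modules) (m : M ⟶ A), Coh.IsCoh M ∧ Epi (m ≫ p) := by
  classical
  have : A.IsQuasicoherent := hA
  have : B.IsQuasicoherent := hB.1
  obtain ⟨σ, hσ⟩ := Props.QApproxMain.exists_affine_finite_cover X
  have hgen : ∀ W : X.affineOpens, ∃ t : Finset Γ(B, (W : X.Opens)),
      Submodule.span Γ(X, (W : X.Opens)) (t : Set Γ(B, (W : X.Opens))) = ⊤ := fun W =>
    (CohDev.finite_sections hB W.2).fg_top
  choose t ht using hgen
  let κ := Σ W : X.affineOpens, Γ(B, (W : X.Opens))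
  have hlift : ∀ k : κ, ∃ a : Γ(A, (k.1 : X.Opens)), p.app _ a = k.2 := fun k =>
    QCoh.app_surjective_of_epi p k.1.2 k.2
  choose c hc using hlift
  obtain ⟨M, m, -, hM, hm⟩ := CohColim.exists_coh_submodule A (σ.sigma t)
    (fun k : κ => (k.1 : X.Opens)) (fun k => k.1.2) c
  refine ⟨M, m, hM, ?_⟩
  have : M.IsQuasicoherent := hM.1
  refine Props.QApproxMain.epi_of_cover _ fun x => ?_
  obtain ⟨W, hW, hx⟩ := hσ x
  refine ⟨W, W.2, hx, ?_⟩
  have h : LinearMap.range (CohDev.appLin (m ≫ p) (W : X.Opens)) = ⊤ := by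
    rw [eq_top_iff, ← ht W, Submodule.span_le]
    intro b hb
    obtain ⟨s, hs⟩ := hm ⟨W, b⟩ (Finset.mem_sigma.2 ⟨hW, hb⟩)
    refine ⟨s, ?_⟩
    show (m ≫ p).app _ s = b
    rw [Scheme.Modules.Hom.comp_app]
    exact (congrArg (p.app _) hs).trans (hc ⟨W, b⟩)
  exact LinearMap.range_eq_top.1 h

end Groth.Agent.CohModel
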