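import Groth.Agent.CohModel.Fibre
import Groth.Agent.CohModel.Lift
import Groth.Agent.KFlat.QCohModel
import Groth.Prelude.Def_DCoh2

/-!
# Coherent models of complexes of quasi-coherent modules with coherent cohomology
-/

set_option autoImplicit false

universe u

open CategoryTheory Limits AlgebraicGeometry HomologicalComplex CochainComplex

noncomputable section

namespace Groth.Agent.CohModel

variable {X : Scheme.{u}}

theorem isCoh_single (M : X.Modules) (hM : Coh.IsCoh M) (b i : ℤ) :
    Coh.IsCoh (((HomologicalComplex.single X.Modules (ComplexShape.up ℤ) b).obj M).X i) := by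
  rcases eq_or_ne i b with rfl | h
  · exact CohDev.isCoh_of_iso (singleObjXSelf (ComplexShape.up ℤ) i M).symm hM
  · exact CohDev.isCoh_of_isZero (isZero_single_obj_X _ b M i h)

/-- Terms of a mapping cone. -/
def coneXIso {S K : CochainComplex X.Modules ℤ} (φ : S ⟶ K) (i : ℤ) :
    (mappingCone φ).X i ≅ S.X (i + 1) ⊞ K.X i :=
  homotopyCofiber.XIsoBiprod φ i (i + 1) rfl

variable [IsNoetherian X]

/-- An extension of coherent modules inside quasi-coherent modules. -/
theorem isCoh_of_exact (T : ShortComplex X.Modules) (hT : T.Exact) (h₁ : Coh.IsCoh T.X₁)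
    (h₂ : Coh.IsQCoh T.X₂) (h₃ : Coh.IsCoh T.X₃) : Coh.IsCoh T.X₂ := by
  have hI : Coh.IsCoh (Abelian.image T.g) :=
    CohDev.isCoh_of_mono (Abelian.image.ι T.g)
      (@QCoh.isQuasicoherent_image X _ _ T.g h₂ h₃.1) h₃
  have hK : Coh.IsCoh (kernel T.g) := by
    have := hT.epi_kernelLift
    exact CohDev.isCoh_of_epi (kernel.lift T.g T.f T.zero) h₁
      (@QCoh.isQuasicoherent_kernel X _ _ T.g h₂ h₃.1)
  have hz : kernel.ι T.g ≫ Abelian.factorThruImage T.g = 0 := by
    rw [← cancel_mono (Abelian.image.ι T.g), Category.assoc, Abelian.image.fac, zero_comp,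
      kernel.condition]
  refine CohDev.isCoh_of_shortExact (S := ShortComplex.mk _ _ hz) ?_ hK hI
  refine { exact := ShortComplex.exact_of_f_is_kernel _ ?_ }
  exact isKernelOfComp (Abelian.image.ι T.g) T.g
    (kernelIsKernel T.g) hz (Abelian.image.fac T.g)

/-- Quasi-coherent complexes, bounded below, with coherent cohomology, bounded above, receive
quasi-isomorphisms from bounded complexes of coherent modules. -/
theorem exists_coh_model (a : ℤ) : ∀ (n : ℕ) (K : CochainComplex X.Modules ℤ) [K.IsStrictlyGE a],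
    (∀ i, Coh.IsQCoh (K.X i)) → (∀ i, Coh.IsCoh (K.homology i)) →
    (∀ i, a + n < i → IsZero (K.homology i)) →
    ∃ (C : CochainComplex X.Modules ℤ) (f : C ⟶ K) (p q : ℤ), QuasiIso f ∧
      (∀ i, Coh.IsCoh (C.X i)) ∧ C.IsStrictlyGE p ∧ C.IsStrictlyLE q := by
  intro n
  induction n with
  | zero =>
    intro K _ _ hH hz
    have hπ : IsIso (K.homologyπ a) := K.isIso_homologyπ (a - 1) a (by simp)
      ((K.isZero_of_isStrictlyGE a (a - 1)).eq_of_src _ _)
    let S : CochainComplex X.Modules ℤ := (HomologicalComplex.single X.Modules (ComplexShape.up ℤ) a).obj (K.cycles a)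
    let φ : S ⟶ K := mkHomFromSingle (𝟙 (K.cycles a) ≫ K.iCycles a) (fun k _ => by simp)
    refine ⟨S, φ, a, a, ?_, isCoh_single _ (CohDev.isCoh_of_iso (asIso (K.homologyπ a)).symm (hH a)) a,
      ?_, ?_⟩
    · rw [quasiIso_iff]
      intro i
      rw [quasiIsoAt_iff_isIso_homologyMap]
      rcases eq_or_ne i a with rfl | h
      · rw [homologyMap_fromSingle K i (𝟙 _) φ rfl]
        infer_instance
      · refine isIso_of_source_target_iso_zero _
          (isZero_single_obj_homology _ a _ i h).isoZero (IsZero.isoZero ?_)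
        rcases lt_or_gt_of_ne h with h' | h'
        · exact ((exactAt_iff_isZero_homology _ _).1
            (ShortComplex.exact_of_isZero_X₂ _ (K.isZero_of_isStrictlyGE a i)))
        · exact hz i (by simpa using h')
    · exact (CochainComplex.isStrictlyGE_iff _ a).2 fun i hi => isZero_single_obj_X _ a _ i hi.ne
    · exact (CochainComplex.isStrictlyLE_iff _ a).2 fun i hi => isZero_single_obj_X _ a _ i hi.ne'
  | succ n ih =>
    intro K _ hX hH hz
    let b : ℤ := a + n + 1
    have hcyc : Coh.IsQCoh (K.cycles b) :=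
      @QCoh.isQuasicoherent_of_iso X _ _
        ((K.cyclesIsKernel b (b + 1) (by simp)).conePointUniqueUpToIso
          (kernelIsKernel (K.d b (b + 1)))).symm
        (@QCoh.isQuasicoherent_kernel X _ _ (K.d b (b + 1)) (hX b) (hX (b + 1)))
    obtain ⟨M, m, hM, hm⟩ := exists_coh_lift (K.homologyπ b) hcyc (hH b)
    let S : CochainComplex X.Modules ℤ := (HomologicalComplex.single X.Modules (ComplexShape.up ℤ) b).obj M
    let φ : S ⟶ K := mkHomFromSingle (m ≫ K.iCycles b) (fun k _ => by simp)
    have hφ : Epi (homologyMap φ b) := by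
      rw [homologyMap_fromSingle K b m φ rfl]
      exact epi_comp _ _
    have hS : ∀ i, Coh.IsCoh (S.X i) := isCoh_single M hM b
    have hSge : S.IsStrictlyGE b :=
      (CochainComplex.isStrictlyGE_iff _ b).2 fun i hi => isZero_single_obj_X _ b _ i hi.ne
    have hge : (mappingCone φ).IsStrictlyGE a :=
      (CochainComplex.isStrictlyGE_iff _ a).2 fun i hi => IsZero.of_iso
        (((biprod_isZero_iff _ _).2
          ⟨S.isZero_of_isStrictlyGE b (i + 1) (by omega), K.isZero_of_isStrictlyGE a i hi⟩))
        (coneXIso φ i)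
    have hX' : ∀ i, Coh.IsQCoh ((mappingCone φ).X i) := fun i =>
      @QCoh.isQuasicoherent_of_iso X _ _ (coneXIso φ i).symm
        (CohDev.isQCoh_biprod (hS (i + 1)).1 (hX i))
    let T := mappingCone.triangleRotateShortComplex φ
    have hT : T.ShortExact := shortExact_rotate φ
    have hH' : ∀ i, Coh.IsCoh ((mappingCone φ).homology i) := fun i => by
      refine isCoh_of_exact _ (hT.homology_exact₂ i) (hH i)
        (@PerfTri.QCohHom.isQuasicoherent_homology X _ hX' i) ?_
      show Coh.IsCoh ((S⟦(1 : ℤ)⟧).homology i)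
      rcases eq_or_ne (i + 1) b with h | h
      · obtain rfl : i = b - 1 := by omega
        exact CohDev.isCoh_of_iso (homologySingleShiftIso M b).symm hM
      · exact CohDev.isCoh_of_isZero (isZero_homology_single_shift M b i h)
    have hz' : ∀ i, a + n < i → IsZero ((mappingCone φ).homology i) := fun i hi => by
      refine (hT.homology_exact₂ i).isZero_X₂ ?_
        ((isZero_homology_single_shift M b i (by omega)).eq_of_tgt _ _)
      show homologyMap (mappingCone.inr φ) i = 0
      rcases eq_or_ne i b with rfl | h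
      · rw [← cancel_epi (homologyMap φ b), comp_zero, ← homologyMap_comp]
        exact ((homotopyCofiber.inrCompHomotopy φ (fun j => ⟨j - 1, by simp⟩)).homologyMap_eq b).trans
          (homologyMap_zero _ _ _)
      · exact (hz i (by push_cast; omega)).eq_of_src _ _
    obtain ⟨C, α, p, q, hα, hC, hp, hq⟩ := ih (mappingCone φ) hX' hH' hz'
    obtain ⟨ε, f, hf⟩ := exists_fibre φ α hα
    have hcone : ∀ i, Coh.IsCoh ((mappingCone (𝟙 S)).X i) := fun i =>
      CohDev.isCoh_of_iso (coneXIso (𝟙 S) i).symm (CohDev.isCoh_biprod (hS _) (hS _))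
    let e : ∀ i, (kernel ε).X i ≅ kernel (ε.f i) := fun i =>
      PreservesKernel.iso (HomologicalComplex.eval X.Modules (ComplexShape.up ℤ) i) ε
    have hsrc : ∀ i, Coh.IsCoh ((C ⊞ mappingCone (𝟙 S)).X i) := fun i =>
      CohDev.isCoh_of_iso (HomologicalComplex.biprodXIso _ _ i).symm
        (CohDev.isCoh_biprod (hC i) (hcone i))
    have htgt : ∀ i, Coh.IsQCoh ((S⟦(1 : ℤ)⟧).X i) := fun i => (hS (i + 1)).1
    have hzero : ∀ i, (i < min p (b - 1) ∨ max q b < i) → IsZero ((C ⊞ mappingCone (𝟙 S)).X i) := by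
      intro i hi
      refine IsZero.of_iso ((biprod_isZero_iff _ _).2 ⟨?_, IsZero.of_iso ((biprod_isZero_iff _ _).2
        ⟨isZero_single_obj_X _ b M _ ?_, isZero_single_obj_X _ b M _ ?_⟩) (coneXIso (𝟙 S) i)⟩)
        (HomologicalComplex.biprodXIso _ _ i)
      · rcases hi with hi | hi
        · exact C.isZero_of_isStrictlyGE p i (by omega)
        · exact C.isZero_of_isStrictlyLE q i (by omega)
      · omega
      · omega
    refine ⟨kernel ε, f, min p (b - 1), max q b, hf, fun i => CohDev.isCoh_of_iso (e i).symm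
      (CohDev.isCoh_kernel _ (hsrc i) (htgt i)), ?_, ?_⟩
    · exact (CochainComplex.isStrictlyGE_iff _ _).2 fun i hi =>
        IsZero.of_mono (kernel.ι (ε.f i)) (hzero i (Or.inl hi)) |>.of_iso (e i)
    · exact (CochainComplex.isStrictlyLE_iff _ _).2 fun i hi =>
        IsZero.of_mono (kernel.ι (ε.f i)) (hzero i (Or.inr hi)) |>.of_iso (e i)

end Groth.Agent.CohModel
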