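import Groth.Agent.ExtZShLib.QCohRes
import Groth.Agent.KFlat.QCohModel
import Groth.Agent.DHA.KInj.Products
import Groth.Agent.ModShf.GrothAb
import Mathlib.CategoryTheory.Abelian.Injective.Extend
import Mathlib.Algebra.Homology.HomotopyCategory.KInjective
import Mathlib.Algebra.Homology.DerivedCategory.TStructure
import Groth.Prelude.Def_DCoh2

/-!
# Injective quasi-coherent models of bounded objects with quasi-coherent cohomology
-/

set_option autoImplicit false

universe u

open CategoryTheory Limits AlgebraicGeometry HomologicalComplex CochainComplex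
open CategoryTheory.Pretriangulated
attribute [local instance] HasDerivedCategory.standard

noncomputable section

namespace Groth.Agent.CohModel

variable {X : Scheme.{u}}

/-- The homology of the pieces of a truncation triangle. -/
theorem trunc_pieces (T : Triangle (DCoh.D X)) (hT : T ∈ distinguishedTriangles) (m : ℤ)
    [T.obj₁.IsLE m] [T.obj₃.IsGE (m + 1)] :
    (∀ i, i ≤ m → IsIso ((DerivedCategory.homologyFunctor X.Modules i).map T.mor₁)) ∧
    (∀ i, m < i → IsIso ((DerivedCategory.homologyFunctor X.Modules i).map T.mor₂)) := by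
  refine ⟨fun i hi => ?_, fun i hi => ?_⟩
  · have : Mono ((DerivedCategory.homologyFunctor X.Modules i).map T.mor₁) :=
      (DerivedCategory.HomologySequence.exact₁ T hT (i - 1) i (by omega)).mono_g
        ((DerivedCategory.isZero_of_isGE T.obj₃ (m + 1) (i - 1) (by omega)).eq_of_src _ _)
    have : Epi ((DerivedCategory.homologyFunctor X.Modules i).map T.mor₁) :=
      (DerivedCategory.HomologySequence.exact₂ T hT i).epi_f
        ((DerivedCategory.isZero_of_isGE T.obj₃ (m + 1) i (by omega)).eq_of_tgt _ _)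
    exact isIso_of_mono_of_epi _
  · have : Mono ((DerivedCategory.homologyFunctor X.Modules i).map T.mor₂) :=
      (DerivedCategory.HomologySequence.exact₂ T hT i).mono_g
        ((DerivedCategory.isZero_of_isLE T.obj₁ m i (by omega)).eq_of_src _ _)
    have : Epi ((DerivedCategory.homologyFunctor X.Modules i).map T.mor₂) :=
      (DerivedCategory.HomologySequence.exact₃ T hT i (i + 1) rfl).epi_f
        ((DerivedCategory.isZero_of_isLE T.obj₁ m (i + 1) (by omega)).eq_of_tgt _ _)
    exact isIso_of_mono_of_epi _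

theorem isQCoh_zero {M : X.Modules} (h : IsZero M) : Coh.IsQCoh M :=
  (CohDev.isCoh_of_isZero h).1

/-- A quasi-coherent module in one degree has an injective quasi-coherent model. -/
theorem exists_model_single [IsLocallyNoetherian X] (F : DCoh.D X) (c : ℤ) [F.IsGE c] [F.IsLE c]
    (hF : DCoh.IsQCohD F) :
    ∃ K : CochainComplex X.Modules ℤ, K.IsStrictlyGE c ∧
      (∀ i, Injective (K.X i) ∧ Coh.IsQCoh (K.X i)) ∧
      Nonempty (DerivedCategory.Q.obj K ≅ F) := by
  obtain ⟨M, ⟨e⟩⟩ := DerivedCategory.exists_iso_singleFunctor_obj_of_isGE_of_isLE F c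
  let h₁ : DCoh.HD F c ≅ M :=
    (DerivedCategory.homologyFunctor X.Modules c).mapIso
        (e ≪≫ (DerivedCategory.singleFunctorIsoCompQ X.Modules c).app M) ≪≫
      (DerivedCategory.homologyFunctorFactors X.Modules c).app _ ≪≫
        singleObjHomologySelfIso (ComplexShape.up ℤ) c M
  let G : {M : X.Modules // Coh.IsQCoh M} :=
    ⟨M, @QCoh.isQuasicoherent_of_iso X _ _ h₁ (hF c)⟩
  let R := ExtZShLib.qcohRes G
  have hq : ∀ i, Coh.IsQCoh (R.cochainComplex.X i) := fun i => by
    by_cases hi : i < 0
    · exact isQCoh_zero (R.cochainComplex.isZero_of_isStrictlyGE 0 i hi)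
    · obtain ⟨k, rfl⟩ := Int.eq_ofNat_of_zero_le (show 0 ≤ i by omega)
      exact @QCoh.isQuasicoherent_of_iso X _ _ (R.cochainComplexXIso _ k rfl).symm
        (ExtZShLib.hull (ExtZShLib.syz G k)).2
  let K : CochainComplex X.Modules ℤ := R.cochainComplex⟦-c⟧
  have : IsIso (DerivedCategory.Q.map R.ι') := inferInstance
  refine ⟨K, R.cochainComplex.isStrictlyGE_shift 0 (-c) c (by omega), fun i => ⟨?_, hq _⟩, ⟨?_⟩⟩
  · exact (inferInstance : Injective (R.cochainComplex.X (i + -c)))
  · exact (DerivedCategory.Q.commShiftIso (-c)).app R.cochainComplex ≪≫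
      (CategoryTheory.shiftFunctor (DCoh.D X) (-c)).mapIso
        ((asIso (DerivedCategory.Q.map R.ι')).symm ≪≫
          ((DerivedCategory.singleFunctorIsoCompQ X.Modules 0).app M).symm) ≪≫
      ((DerivedCategory.singleFunctors X.Modules).shiftIso (-c) c 0 (by omega)).app M ≪≫ e.symm

/-- Bounded objects with quasi-coherent cohomology have bounded below models by injective
quasi-coherent modules. -/
theorem exists_qcoh_model [IsLocallyNoetherian X] (a : ℤ) :
    ∀ (n : ℕ) (F : DCoh.D X) [F.IsGE a] [F.IsLE (a + n)], DCoh.IsQCohD F →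
    ∃ K : CochainComplex X.Modules ℤ, K.IsStrictlyGE a ∧
      (∀ i, Injective (K.X i) ∧ Coh.IsQCoh (K.X i)) ∧
      Nonempty (DerivedCategory.Q.obj K ≅ F) := by
  intro n
  induction n with
  | zero =>
    intro F _ h hF
    have : F.IsLE a := by simpa using h
    exact exists_model_single F a hF
  | succ n ih =>
    intro F _ hle hF
    obtain ⟨A, B, hA, hB, f, g, δ, hT⟩ :=
      DerivedCategory.TStructure.t.exists_triangle F (a + n) (a + n + 1) rfl
    have : A.IsLE (a + n) := ⟨hA⟩
    have : B.IsGE (a + n + 1) := ⟨hB⟩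
    let T : Triangle (DCoh.D X) := Triangle.mk f g δ
    obtain ⟨hf, hg⟩ := @trunc_pieces X T hT (a + n) ‹_› ‹_›
    have hAz : A.IsGE a := by
      rw [DerivedCategory.isGE_iff]
      intro i hi
      have : IsIso ((DerivedCategory.homologyFunctor X.Modules i).map f) := hf i (by omega)
      exact (DerivedCategory.isZero_of_isGE F a i hi).of_iso
        (asIso ((DerivedCategory.homologyFunctor X.Modules i).map f))
    have hBz : B.IsLE (a + n + 1) := by
      rw [DerivedCategory.isLE_iff]
      intro i hi
      have : IsIso ((DerivedCategory.homologyFunctor X.Modules i).map g) := hg i (by omega)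
      exact (DerivedCategory.isZero_of_isLE F (a + (n + 1 : ℕ)) i (by push_cast; omega)).of_iso
        (asIso ((DerivedCategory.homologyFunctor X.Modules i).map g)).symm
    have hAq : DCoh.IsQCohD A := fun i => by
      by_cases hi : i ≤ a + n
      · have : IsIso ((DerivedCategory.homologyFunctor X.Modules i).map f) := hf i hi
        exact @QCoh.isQuasicoherent_of_iso X _ _
          (asIso ((DerivedCategory.homologyFunctor X.Modules i).map f)).symm (hF i)
      · exact isQCoh_zero (DerivedCategory.isZero_of_isLE A (a + n) i (by omega))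
    have hBq : DCoh.IsQCohD B := fun i => by
      by_cases hi : a + n < i
      · have : IsIso ((DerivedCategory.homologyFunctor X.Modules i).map g) := hg i hi
        exact @QCoh.isQuasicoherent_of_iso X _ _
          (asIso ((DerivedCategory.homologyFunctor X.Modules i).map g)) (hF i)
      · exact isQCoh_zero (DerivedCategory.isZero_of_isGE B (a + n + 1) i (by omega))
    obtain ⟨K₁, hK₁, hI₁, ⟨e₁⟩⟩ := ih A hAq
    obtain ⟨K₃, hK₃, hI₃, ⟨e₃⟩⟩ := exists_model_single B (a + n + 1) hBq
    let L : CochainComplex X.Modules ℤ := K₁⟦(1 : ℤ)⟧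
    have : L.IsStrictlyGE (a - 1) := K₁.isStrictlyGE_shift a 1 (a - 1) (by omega)
    have hL : ∀ i, Injective (L.X i) := fun i => (hI₁ (i + 1)).1
    have : L.IsKInjective := CochainComplex.isKInjective_of_injective L (a - 1)
    let eL : DerivedCategory.Q.obj L ≅ A⟦(1 : ℤ)⟧ :=
      (DerivedCategory.Q.commShiftIso (1 : ℤ)).app K₁ ≪≫ (CategoryTheory.shiftFunctor (DCoh.D X) (1 : ℤ)).mapIso e₁
    obtain ⟨k, hk⟩ := DHA.KInj.Q_map_surjective K₃ L (e₃.hom ≫ δ ≫ eL.inv)
    let eT := isoTriangleOfIso₁₂ (DerivedCategory.Q.mapTriangle.obj (mappingCone.triangle k))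
      T.rotate.rotate (DerivedCategory.mappingCone_triangle_distinguished k)
      (rot_of_distTriang _ (rot_of_distTriang _ hT)) e₃ eL
      (by
        show DerivedCategory.Q.map k ≫ eL.hom = e₃.hom ≫ δ
        rw [hk, Category.assoc, Category.assoc, Iso.inv_hom_id, Category.comp_id])
    let e : DerivedCategory.Q.obj (mappingCone k) ≅ F⟦(1 : ℤ)⟧ := Triangle.π₃.mapIso eT
    let K : CochainComplex X.Modules ℤ := (mappingCone k)⟦(-1 : ℤ)⟧
    refine ⟨K, (CochainComplex.isStrictlyGE_iff _ a).2 fun i hi => ?_, fun i => ?_, ⟨?_⟩⟩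
    · exact IsZero.of_iso ((biprod_isZero_iff _ _).2
        ⟨K₃.isZero_of_isStrictlyGE (a + n + 1) _ (by omega),
          L.isZero_of_isStrictlyGE (a - 1) _ (by omega)⟩)
        (homotopyCofiber.XIsoBiprod k (i + -1) (i + -1 + 1) rfl)
    · refine ⟨?_, ?_⟩
      · have := (hI₃ (i + -1 + 1)).1
        have := hL (i + -1)
        exact Injective.of_iso
          (homotopyCofiber.XIsoBiprod k (i + -1) (i + -1 + 1) rfl).symm inferInstance
      · exact @QCoh.isQuasicoherent_of_iso X _ _
          (homotopyCofiber.XIsoBiprod k (i + -1) (i + -1 + 1) rfl).symm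
          (CohDev.isQCoh_biprod (hI₃ _).2 (hI₁ _).2)
    · exact (DerivedCategory.Q.commShiftIso (-1 : ℤ)).app (mappingCone k) ≪≫
        (CategoryTheory.shiftFunctor (DCoh.D X) (-1 : ℤ)).mapIso e ≪≫
        (shiftFunctorCompIsoId (DCoh.D X) (1 : ℤ) (-1) (by omega)).app F

end Groth.Agent.CohModel
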