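import Groth.Agent.CohModel.Coherent
import Groth.Agent.CohModel.QCohModel

/-!
# Extending bounded coherent complexes from an open subscheme
-/

set_option autoImplicit false

universe u

open CategoryTheory Limits AlgebraicGeometry HomologicalComplex CochainComplex TopologicalSpace
attribute [local instance] HasDerivedCategory.standard

noncomputable section

namespace Groth.Agent.CohModel

open Groth.Agent.Props Groth.Agent.Props.SubMod Groth.Agent.Props.SubSheaf

variable {X : Scheme.{u}}

theorem isCoh_cycles [IsNoetherian X] (E : CochainComplex X.Modules ℤ)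
    (hE : ∀ i, Coh.IsCoh (E.X i)) (i : ℤ) : Coh.IsCoh (E.cycles i) :=
  CohDev.isCoh_of_mono (E.iCycles i)
    (@QCoh.isQuasicoherent_of_iso X _ _
      ((E.cyclesIsKernel i (i + 1) (by simp)).conePointUniqueUpToIso
        (kernelIsKernel (E.d i (i + 1)))).symm
      (@QCoh.isQuasicoherent_kernel X _ _ (E.d i (i + 1)) (hE i).1 (hE (i + 1)).1)) (hE i)

theorem isCohD_of_terms [IsNoetherian X] (E : CochainComplex X.Modules ℤ)
    (hE : ∀ i, Coh.IsCoh (E.X i)) : DCoh.IsCohD (DCoh.toD X E) := fun i =>
  CohDev.isCoh_of_iso ((DerivedCategory.homologyFunctorFactors X.Modules i).app E).symm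
    (show Coh.IsCoh (E.homology i) from CohDev.isCoh_of_epi (E.homologyπ i) (isCoh_cycles E hE i)
      (@PerfTri.QCohHom.isQuasicoherent_homology X E (fun j => (hE j).1) i))

variable [IsNoetherian X] (U : X.Opens)

theorem exists_sub_extension (G : (U : Scheme.{u}).Modules) (hG : Coh.IsCoh G) :
    ∃ (S : X.Modules) (s : S ⟶ (Scheme.Modules.pushforward U.ι).obj G), Coh.IsCoh S ∧
      IsIso ((Scheme.Modules.restrictFunctor U.ι).map s) := by
  have : G.IsQuasicoherent := hG.1
  have hU : IsCompact (U : Set X) := NoetherianSpace.isCompact (U : Set X)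
  have : CompactSpace U := isCompact_iff_compactSpace.mp hU
  have : QuasiCompact U.ι := inferInstance
  let M : X.Modules := (Scheme.Modules.pushforward U.ι).obj G
  have : M.IsQuasicoherent := QCoh.isQuasicoherent_pushforward U.ι G
  have hM : SheafOfModules.IsFiniteType.{u} (M.restrict U.ι) :=
    SubExt.isFiniteType_of_iso (SubExt.restrictPushIso U G).symm hG.2
  obtain ⟨S', hS', h1, -⟩ := exists_global hU (SubExt.ftOn_top hM)
  exact ⟨sub S', incl S', ⟨isQuasicoherent_sub hS', isFiniteType_sub hS'⟩,
    isIso_restrict_incl (S := S') (U := U) h1⟩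

/-- A bounded complex of coherent modules on an open subscheme extends. -/
theorem exists_extension (C : CochainComplex (U : Scheme.{u}).Modules ℤ)
    (hC : ∀ i, Coh.IsCoh (C.X i)) (p q : ℤ) [C.IsStrictlyGE p] [C.IsStrictlyLE q] :
    ∃ G : CochainComplex X.Modules ℤ, (∀ i, Coh.IsCoh (G.X i)) ∧ G.IsStrictlyGE p ∧
      G.IsStrictlyLE q ∧ Nonempty ((DCoh.restrictCx U).obj G ≅ C) := by
  have : QuasiCompact U.ι := by
    have : CompactSpace U := isCompact_iff_compactSpace.mp (NoetherianSpace.isCompact (U : Set X))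
    infer_instance
  let P := Scheme.Modules.pushforward U.ι
  let R := Scheme.Modules.restrictFunctor U.ι
  have hP : ∀ i, Coh.IsQCoh (P.obj (C.X i)) := fun i =>
    @QCoh.isQuasicoherent_pushforward _ _ U.ι _ _ (C.X i) (hC i).1
  choose S s hS hs using fun i => exists_sub_extension U (C.X i) (hC i)
  let d : ∀ i j, P.obj (C.X i) ⟶ P.obj (C.X j) := fun i j => P.map (C.d i j)
  have hdd : ∀ i j k, d i j ≫ d j k = 0 := fun i j k => by
    simp only [d, ← P.map_comp, C.d_comp_d, Functor.map_zero]
  let ψ : ∀ i, S i ⊞ S (i - 1) ⟶ P.obj (C.X i) := fun i =>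
    biprod.desc (s i) (s (i - 1) ≫ d (i - 1) i)
  let E : ℤ → X.Modules := fun i => Abelian.image (ψ i)
  let ι : ∀ i, E i ⟶ P.obj (C.X i) := fun i => Abelian.image.ι (ψ i)
  have hι : ∀ i, Mono (ι i) := fun i => inferInstanceAs (Mono (Abelian.image.ι (ψ i)))
  have hE : ∀ i, Coh.IsCoh (E i) := fun i =>
    CohDev.isCoh_image (ψ i) (CohDev.isCoh_biprod (hS i) (hS (i - 1))) (hP i)
  have hlift : ∀ i j, i + 1 = j → ∃ e : E i ⟶ E j, e ≫ ι j = ι i ≫ d i j := by
    intro i j hij
    obtain rfl : i = j - 1 := by omega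
    refine ⟨kernel.lift (cokernel.π (ψ j)) (ι (j - 1) ≫ d (j - 1) j) ?_, kernel.lift_ι _ _ _⟩
    rw [← cancel_epi (Abelian.factorThruImage (ψ (j - 1))), comp_zero, ← Category.assoc,
      ← Category.assoc]
    simp only [ι, Abelian.image.fac]
    refine biprod.hom_ext' _ _ ?_ ?_
    · have h : biprod.inl ≫ ψ (j - 1) ≫ d (j - 1) j = biprod.inr ≫ ψ j := by simp [ψ]
      rw [comp_zero]
      simp only [← Category.assoc] at h ⊢
      rw [h, Category.assoc, cokernel.condition, comp_zero]
    · rw [comp_zero]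
      simp only [ψ, biprod.inr_desc_assoc, Category.assoc]
      rw [← Category.assoc (d (j - 1 - 1) (j - 1)), hdd, zero_comp, comp_zero]
  choose e he using hlift
  let G : CochainComplex X.Modules ℤ := CochainComplex.of E (fun i => e i (i + 1) rfl) fun i => by
    rw [← cancel_mono (ι (i + 1 + 1)), Category.assoc, he, ← Category.assoc, he, Category.assoc,
      hdd, comp_zero, zero_comp]
  have hG : ∀ i j, i + 1 = j → G.d i j ≫ ι j = ι i ≫ d i j := by
    intro i j h
    subst h
    show G.d i (i + 1) ≫ _ = _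
    have h : G.d i (i + 1) = e i (i + 1) rfl :=
      CochainComplex.of_d (X := E) (d := fun i => e i (i + 1) rfl) i
    rw [h, he]
  let PC : CochainComplex X.Modules ℤ := (P.mapHomologicalComplex (ComplexShape.up ℤ)).obj C
  let γ : G ⟶ PC :=
    { f := ι, comm' := fun i j h => (hG i j h).symm }
  have hiso : ∀ i, IsIso (((DCoh.restrictCx U).map γ).f i) := fun i => by
    show IsIso (R.map (ι i))
    have : Mono (R.map (ι i)) := inferInstance
    have : Epi (R.map (biprod.inl ≫ Abelian.factorThruImage (ψ i)) ≫ R.map (ι i)) := by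
      rw [← R.map_comp, Category.assoc, Abelian.image.fac, biprod.inl_desc]
      have := hs i
      infer_instance
    have : Epi (R.map (ι i)) :=
      epi_of_epi (R.map (biprod.inl ≫ Abelian.factorThruImage (ψ i))) _
    exact isIso_of_mono_of_epi _
  have hzero : ∀ i, IsZero (C.X i) → IsZero (E i) := fun i h =>
    IsZero.of_mono (ι i) (P.map_isZero h)
  refine ⟨G, hE, (CochainComplex.isStrictlyGE_iff _ p).2 fun i hi =>
      hzero i (C.isZero_of_isStrictlyGE p i hi),
    (CochainComplex.isStrictlyLE_iff _ q).2 fun i hi =>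
      hzero i (C.isZero_of_isStrictlyLE q i hi), ⟨?_⟩⟩
  have : IsIso ((DCoh.restrictCx U).map γ) := HomologicalComplex.Hom.isIso_of_components _
  exact asIso ((DCoh.restrictCx U).map γ) ≪≫
    (NatIso.mapHomologicalComplex (asIso (Scheme.Modules.restrictAdjunction U.ι).counit)
      (ComplexShape.up ℤ)).app C

end Groth.Agent.CohModel
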