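import Mathlib.Algebra.Homology.HomotopyCategory.DegreewiseSplit
import Mathlib.Algebra.Homology.HomotopyCategory.SingleFunctors
import Mathlib.Algebra.Homology.HomologySequenceLemmas
import Mathlib.Algebra.Homology.HomologicalComplexBiprod
import Mathlib.Algebra.Homology.SingleHomology
import Mathlib.Algebra.Homology.DerivedCategory.ShortExact

/-!
# Fibres of quasi-isomorphisms into mapping cones
-/

set_option autoImplicit false

universe v u

open CategoryTheory Limits HomologicalComplex CochainComplex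

noncomputable section

namespace Groth.Agent.CohModel

variable {A : Type u} [Category.{v} A] [Abelian A]

/-- The five lemma for the first terms of short exact sequences of complexes. -/
theorem quasiIso_τ₁ {S₁ S₂ : ShortComplex (CochainComplex A ℤ)} (φ : S₁ ⟶ S₂)
    (hS₁ : S₁.ShortExact) (hS₂ : S₂.ShortExact) (h₂ : QuasiIso φ.τ₂) (h₃ : QuasiIso φ.τ₃) :
    QuasiIso φ.τ₁ := by
  rw [quasiIso_iff]
  intro j
  rw [quasiIsoAt_iff_isIso_homologyMap]
  have hij : (ComplexShape.up ℤ).Rel (j - 1) j := by simp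
  apply Abelian.isIso_of_epi_of_isIso_of_isIso_of_mono
    (φ := ComposableArrows.δ₀Functor.map
      (HomologySequence.mapComposableArrows₅ φ hS₁ hS₂ (j - 1) j hij))
  · exact (HomologySequence.composableArrows₅_exact hS₁ (j - 1) j hij).δ₀
  · exact (HomologySequence.composableArrows₅_exact hS₂ (j - 1) j hij).δ₀
  · exact (inferInstance : Epi (homologyMap φ.τ₂ (j - 1)))
  · exact (inferInstance : IsIso (homologyMap φ.τ₃ (j - 1)))
  · exact (inferInstance : IsIso (homologyMap φ.τ₂ j))
  · exact (inferInstance : Mono (homologyMap φ.τ₃ j))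

variable {S K C' : CochainComplex A ℤ} (φ : S ⟶ K)

theorem shortExact_rotate :
    (mappingCone.triangleRotateShortComplex φ).ShortExact :=
  HomologicalComplex.shortExact_of_degreewise_shortExact _
    fun n => (mappingCone.triangleRotateShortComplexSplitting φ n).shortExact

theorem isZero_homology_cone_id (i : ℤ) :
    IsZero ((mappingCone (𝟙 S)).homology i) := by
  rw [IsZero.iff_id_eq_zero, ← HomologicalComplex.homologyMap_id,
    (mappingCone.homotopyToZeroOfId S).homologyMap_eq i, HomologicalComplex.homologyMap_zero]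

theorem quasiIso_biprod_inl (T : CochainComplex A ℤ) (hT : ∀ i, IsZero (T.homology i)) :
    QuasiIso (biprod.inl : C' ⟶ C' ⊞ T) := by
  rw [quasiIso_iff]
  intro i
  rw [quasiIsoAt_iff_isIso_homologyMap]
  refine ⟨⟨homologyMap (biprod.fst : C' ⊞ T ⟶ C') i, ?_, ?_⟩⟩
  · rw [← homologyMap_comp, biprod.inl_fst, homologyMap_id]
  · have h : homologyMap (biprod.snd ≫ biprod.inr : C' ⊞ T ⟶ C' ⊞ T) i = 0 := by
      rw [homologyMap_comp, (hT i).eq_of_tgt (homologyMap (biprod.snd : C' ⊞ T ⟶ T) i) 0, zero_comp]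
    rw [← homologyMap_comp, ← homologyMap_id]
    conv_rhs => rw [← biprod.total, homologyMap_add, h, add_zero]

/-- The fibre of a quasi-isomorphism to a mapping cone. -/
theorem exists_fibre (α : C' ⟶ mappingCone φ) (hα : QuasiIso α) :
    ∃ (ε : C' ⊞ mappingCone (𝟙 S) ⟶ S⟦(1 : ℤ)⟧) (f : kernel ε ⟶ K), QuasiIso f := by
  let β : C' ⊞ mappingCone (𝟙 S) ⟶ mappingCone φ :=
    biprod.desc α (mappingCone.map (𝟙 S) φ (𝟙 S) φ (by simp))
  have hβ : QuasiIso β := by
    have h1 := quasiIso_biprod_inl (C' := C') _ (isZero_homology_cone_id (S := S))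
    have h2 : QuasiIso (biprod.inl ≫ β) := by simpa [β] using hα
    exact quasiIso_of_comp_left (biprod.inl : C' ⟶ C' ⊞ mappingCone (𝟙 S)) β
  let T := mappingCone.triangleRotateShortComplex φ
  have hT : T.ShortExact := shortExact_rotate φ
  let g : mappingCone φ ⟶ S⟦(1 : ℤ)⟧ := T.g
  let ε : C' ⊞ mappingCone (𝟙 S) ⟶ S⟦(1 : ℤ)⟧ := β ≫ g
  have hε : Epi ε := by
    have hcomm : mappingCone.map (𝟙 S) φ (𝟙 S) φ (by simp) ≫ g =
        (mappingCone.triangleRotateShortComplex (𝟙 S)).g := by
      have := (mappingCone.triangleMap (𝟙 S) φ (𝟙 S) φ (by simp)).comm₃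
      refine this.symm.trans ?_
      exact (congrArg (_ ≫ ·) ((CategoryTheory.shiftFunctor _ (1 : ℤ)).map_id _)).trans (Category.comp_id _)
    have : Epi ((biprod.inr : mappingCone (𝟙 S) ⟶ C' ⊞ mappingCone (𝟙 S)) ≫ ε) := by
      have := (shortExact_rotate (𝟙 S)).epi_g
      simp only [ε, β, biprod.inr_desc_assoc]
      rw [hcomm]
      exact (shortExact_rotate (𝟙 S)).epi_g
    exact epi_of_epi (biprod.inr : mappingCone (𝟙 S) ⟶ C' ⊞ mappingCone (𝟙 S)) ε
  have h0 : (kernel.ι ε ≫ β) ≫ T.g = 0 := by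
    rw [Category.assoc]
    exact kernel.condition ε
  let f : kernel ε ⟶ K := hT.fIsKernel.lift (KernelFork.ofι (kernel.ι ε ≫ β) h0)
  have hf : f ≫ T.f = kernel.ι ε ≫ β :=
    hT.fIsKernel.fac (KernelFork.ofι (kernel.ι ε ≫ β) h0) WalkingParallelPair.zero
  have hS₁ : (ShortComplex.mk (kernel.ι ε) ε (kernel.condition ε)).ShortExact :=
    { exact := ShortComplex.exact_of_f_is_kernel _ (kernelIsKernel ε) }
  let ψ : ShortComplex.mk (kernel.ι ε) ε (kernel.condition ε) ⟶ T :=
    { τ₁ := f, τ₂ := β, τ₃ := 𝟙 _, comm₁₂ := hf, comm₂₃ := (Category.comp_id ε).symm }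
  exact ⟨ε, f, quasiIso_τ₁ ψ hS₁ hT hβ (inferInstanceAs (QuasiIso (𝟙 _)))⟩

/-- A map from a single complex induces the given map on homology. -/
theorem homologyMap_fromSingle (K : CochainComplex A ℤ) (b : ℤ) {M : A} (m : M ⟶ K.cycles b)
    (φ : (HomologicalComplex.single A (ComplexShape.up ℤ) b).obj M ⟶ K)
    (hφ : φ = mkHomFromSingle (m ≫ K.iCycles b) (fun k _ => by simp)) :
    homologyMap φ b = (singleObjHomologySelfIso (ComplexShape.up ℤ) b M).hom ≫ m ≫
      K.homologyπ b := by
  have hc : cyclesMap φ b = (singleObjCyclesSelfIso (ComplexShape.up ℤ) b M).hom ≫ m := by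
    rw [← cancel_mono (K.iCycles b), cyclesMap_i, hφ, mkHomFromSingle_f, Category.assoc,
      singleObjCyclesSelfIso_hom, Category.assoc]
  rw [← cancel_epi (((HomologicalComplex.single A (ComplexShape.up ℤ) b).obj M).homologyπ b),
    homologyπ_naturality, hc, homologyπ_singleObjHomologySelfIso_hom_assoc, Category.assoc]

/-- The homology of a shifted single complex vanishes away from its degree. -/
theorem isZero_homology_single_shift (M : A) (b i : ℤ) (h : i + 1 ≠ b) :
    IsZero ((((HomologicalComplex.single A (ComplexShape.up ℤ) b).obj M)⟦(1 : ℤ)⟧).homology i) :=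
  (isZero_single_obj_homology (ComplexShape.up ℤ) (b - 1) M i (by omega)).of_iso
    ((homologyFunctor A (ComplexShape.up ℤ) i).mapIso
      (((CochainComplex.singleFunctors A).shiftIso 1 (b - 1) b (by omega)).app M))

/-- The homology of a shifted single complex in its degree. -/
def homologySingleShiftIso (M : A) (b : ℤ) :
    (((HomologicalComplex.single A (ComplexShape.up ℤ) b).obj M)⟦(1 : ℤ)⟧).homology (b - 1) ≅ M :=
  (homologyFunctor A (ComplexShape.up ℤ) (b - 1)).mapIso
      (((CochainComplex.singleFunctors A).shiftIso 1 (b - 1) b (by omega)).app M) ≪≫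
    singleObjHomologySelfIso (ComplexShape.up ℤ) (b - 1) M

end Groth.Agent.CohModel
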